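import Groth.Agent.L21.NormRed.H0Conn
import Groth.Agent.L21.RR.BirationalGenus
import Groth.Agent.L21.Mod.Stalks
import Mathlib.Algebra.Homology.ShortComplex.Ab

/-!
Functions on the normalisation of a connected curve of genus zero which are constant on a fibre come
from the curve.
-/

set_option autoImplicit false
set_option backward.isDefEq.respectTransparency false
set_option linter.style.haveILetI false
universe u

open CategoryTheory CategoryTheory.Limits AlgebraicGeometry TopologicalSpace Opposite

noncomputable section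

namespace Groth.L21.GenusZero

open Groth.L21.RR (st st_germ SuppClosed hk e0 e0_hmap)
open Groth.L21.NormRed (gx cst isUnit_gx_cst)
open Groth.L16.CohLinear

section Local

variable {X Y : Scheme.{u}} (f : Y ⟶ X)

/-- A section whose class in the cokernel of `O → f_* O` vanishes at a point comes from the base near it. -/
theorem exists_of_coker_zero {W : X.Opens} {y : X} (hy : y ∈ W) (t : Γ(Y, f ⁻¹ᵁ W))
    (h : st (cokernel.π (ClSub.unitToPush f)) y
      (((Scheme.Modules.pushforward f).obj (Coh.structureModule Y)).presheaf.germ W y hy t) = 0) :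
    ∃ (V : X.Opens) (_ : y ∈ V) (hVW : V ≤ W) (a : Γ(X, V)),
      f.app V a = Y.presheaf.map (homOfLE (f.preimage_mono hVW)).op t := by
  have hex := (Groth.L21.Mod.exact_iff_stalk _).1 (ShortComplex.exact_cokernel (ClSub.unitToPush f)) y
  obtain ⟨α, hα⟩ := (ShortComplex.ab_exact_iff _).1 hex
    (((Scheme.Modules.pushforward f).obj (Coh.structureModule Y)).presheaf.germ W y hy t) h
  obtain ⟨V₀, hyV₀, a, rfl⟩ := TopCat.Presheaf.exists_germ_eq (Coh.structureModule X).presheaf α
  change st (ClSub.unitToPush f) y _ = _ at hα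
  rw [st_germ] at hα
  obtain ⟨V, hyV, i₁, i₂, e⟩ := TopCat.Presheaf.germ_eq _ y hyV₀ hy _ _ hα
  refine ⟨V, hyV, i₂.le, X.presheaf.map i₁.op a, ?_⟩
  refine Eq.trans ?_ e
  exact congr($(f.naturality i₁.op) a)

end Local

variable (k : Type u) [Field k] {C C' : Scheme.{u}} [C.Over (Spec (CommRingCat.of k))]
  [C'.Over (Spec (CommRingCat.of k))]

theorem app_cst (ν : C' ⟶ C) (hν : ν ≫ (C ↘ Spec (CommRingCat.of k)) = C' ↘ Spec (CommRingCat.of k)) (c : k) :
    (ν.appTop).hom (cst k (X := C) c) = cst k (X := C') c := by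
  show (ν.appTop).hom ((C ↘ Spec (CommRingCat.of k)).appTop _) = (C' ↘ Spec (CommRingCat.of k)).appTop _
  rw [← CommRingCat.comp_apply, ← Scheme.Hom.comp_appTop, hν]

theorem stalkMap_cst (ν : C' ⟶ C) (hν : ν ≫ (C ↘ Spec (CommRingCat.of k)) = C' ↘ Spec (CommRingCat.of k))
    (z : C') (c : k) : (ν.stalkMap z).hom (gx (ν z) (cst k c)) = gx z (cst k c) := by
  rw [← app_cst k ν hν c]
  exact Scheme.Hom.germ_stalkMap_apply ν ⊤ z trivial _

theorem cst_eq_of_sub_mem {y : C} (α : C.presheaf.stalk y) {p q : k}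
    (hp : ¬ IsUnit (α - gx y (cst k p))) (hq : ¬ IsUnit (α - gx y (cst k q))) : p = q := by
  by_contra hn
  have h1 : gx y (cst k (q - p)) = (α - gx y (cst k p)) - (α - gx y (cst k q)) := by
    rw [map_sub (cst k), map_sub (gx y)]; ring
  exact (IsLocalRing.mem_maximalIdeal _).1 (h1 ▸ Ideal.sub_mem _
    ((IsLocalRing.mem_maximalIdeal _).2 hp) ((IsLocalRing.mem_maximalIdeal _).2 hq))
    (isUnit_gx_cst k y (sub_ne_zero.2 (Ne.symm hn)))

variable [IsAlgClosed k] [IsProper (C ↘ Spec (CommRingCat.of k))] [IsReduced C] [ConnectedSpace C] [IsReduced C']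

theorem exists_preimage (hd : topologicalKrullDim C ≤ 1) (hgen : Curv2.genus k C = 0) (ν : C' ⟶ C) [IsFinite ν]
    [Surjective ν] (hν : ν ≫ (C ↘ Spec (CommRingCat.of k)) = C' ↘ Spec (CommRingCat.of k))
    {U : C.Opens} (hU : Dense (U : Set C)) [IsIso (ν ∣_ U)]
    {W : C.Opens} {x : C} (hx : x ∈ W) (b : Γ(C', ν ⁻¹ᵁ W)) (c : k)
    (hb : ∀ (z : C') (hz : ν z = x),
      ¬ IsUnit (C'.presheaf.germ (ν ⁻¹ᵁ W) z (show ν z ∈ W by rw [hz]; exact hx) b - gx z (cst k c))) :
    ∃ (V : C.Opens) (_ : x ∈ V) (hVW : V ≤ W) (a : Γ(C, V)),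
      ν.app V a = C'.presheaf.map (homOfLE (ν.preimage_mono hVW)).op b := by
  classical
  haveI := Groth.L21.RR.isNoetherian_of_proper (X := C) k
  haveI : IsProper (C' ↘ Spec (CommRingCat.of k)) := by rw [← hν]; infer_instance
  haveI := Groth.L21.RR.isNoetherian_of_proper (X := C') k
  let P := (Scheme.Modules.pushforward ν).obj (Coh.structureModule C')
  let u := ClSub.unitToPush ν
  have hs : SuppClosed (cokernel u) := Groth.L21.RR.suppClosed_cokernel_unitToPush hd hU
  have hmono : Mono u := by
    refine (Scheme.Modules.toPresheaf C).mono_of_mono_map ?_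
    haveI : ∀ T, Mono (((Scheme.Modules.toPresheaf C).map u).app T) := fun T =>
      ConcreteCategory.mono_of_injective _ (Groth.L21.RR.app_injective_of_isIso_over_dense ν hU T.unop)
    exact NatTrans.mono_of_mono_app _
  have hS : (ShortComplex.mk u (cokernel.π u) (cokernel.condition u)).ShortExact :=
    { exact := ShortComplex.exact_cokernel u }
  haveI := Groth.L21.RR.finite_HH' k (Groth.L16.CohClosedPush.isCoh_structure (X := C)) 1
  haveI : Subsingleton (Coh.HH C (Coh.structureModule C) 1) := Module.finrank_zero_iff.1 hgen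
  -- spread the class of `b` at `x` out by zero and lift it
  obtain ⟨s, hs1, hs2⟩ := Groth.L21.RR.exists_section_germ hs x (st (cokernel.π u) x (P.presheaf.germ W x hx b))
  obtain ⟨w, hw⟩ := (exact_hmap_delta hS 0 ((e0 _).symm s)).1 (Subsingleton.elim _ _)
  let W₀ : Γ(C', ⊤) := e0 P w
  have hW₀ : (cokernel.π u).app ⊤ (show Γ(P, ⊤) from W₀) = s := by
    rw [← e0_hmap, hw, AddEquiv.apply_symm_apply]
  obtain ⟨v, hv⟩ := Groth.L21.NormRed.exists_locally_constant k W₀
  let val : C' → k := fun z => v (ConnectedComponents.mk z)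
  -- the values are constant on every fibre
  have hconst : ∀ z z' : C', ν z = ν z' → val z = val z' := by
    intro z z' he
    by_cases hy : ν z = x
    · have hz' : ν z' = x := he.symm.trans hy
      have h0 : st (cokernel.π u) x (P.presheaf.germ W x hx
          (show Γ(C', ν ⁻¹ᵁ W) from C'.presheaf.map (homOfLE (le_top : ν ⁻¹ᵁ W ≤ ⊤)).op W₀ - b)) = 0 := by
        rw [← hW₀] at hs1
        erw [map_sub (P.presheaf.germ W x hx).hom, map_sub (st (cokernel.π u) x)]
        rw [sub_eq_zero, ← hs1, ← st_germ]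
        exact congrArg _ (TopCat.Presheaf.germ_res_apply P.presheaf (homOfLE (le_top : W ≤ ⊤)) x hx _)
      obtain ⟨V, hxV, hVW, a, ha⟩ := exists_of_coker_zero ν hx _ h0
      have key : ∀ t : C', ν t = x → ¬ IsUnit (C.presheaf.germ V x hxV a - gx x (cst k (val t - c))) := by
        intro t ht
        subst ht
        intro hu
        refine hb t rfl ?_
        have h1 := hu.map (ν.stalkMap t).hom
        rw [map_sub, stalkMap_cst k ν hν, Scheme.Hom.germ_stalkMap_apply, ha, TopCat.Presheaf.germ_res_apply,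
          map_sub (C'.presheaf.germ (ν ⁻¹ᵁ W) t _).hom, TopCat.Presheaf.germ_res_apply, map_sub (cst k),
          map_sub (gx t)] at h1
        erw [hv t] at h1
        have h2 := h1.neg
        convert h2 using 1
        show _ = -(_ - _ - (_ - _))
        ring
      exact sub_left_inj.1 (cst_eq_of_sub_mem k _ (key z hy) (key z' hz'))
    · have h0 : st (cokernel.π u) (ν z) (P.presheaf.germ ⊤ (ν z) trivial (show Γ(P, ⊤) from W₀)) = 0 := by
        rw [st_germ, hW₀]
        exact hs2 _ hy
      obtain ⟨V, hyV, hVW, a, ha⟩ := exists_of_coker_zero ν (W := ⊤) trivial W₀ h0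
      have key : ∀ (t : C') (ht : ν t = ν z), ¬ IsUnit (C.presheaf.germ V (ν z) hyV a - gx (ν z) (cst k (val t))) := by
        intro t ht hu
        have hyV' : ν t ∈ V := ht.symm ▸ hyV
        have hu' : IsUnit (C.presheaf.germ V (ν t) hyV' a - gx (ν t) (cst k (val t))) := by
          revert hu
          generalize ν z = y at ht hyV
          subst ht
          exact id
        have h1 := hu'.map (ν.stalkMap t).hom
        rw [map_sub, stalkMap_cst k ν hν, Scheme.Hom.germ_stalkMap_apply, ha, TopCat.Presheaf.germ_res_apply] at h1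
        erw [hv t, sub_self] at h1
        exact not_isUnit_zero h1
      exact cst_eq_of_sub_mem k _ (key z rfl) (key z' he.symm)
  -- hence constant
  choose g hg using ν.surjective
  let v' : C → k := fun y => val (g y)
  have hv' : ∀ z, v' (ν z) = val z := fun z => hconst _ _ (hg _)
  haveI := Groth.L21.NormRed.finite_connectedComponents (X := C')
  have hlc : IsLocallyConstant v' := by
    have hcl : ∀ d, IsClosed (v' ⁻¹' {d}) := fun d => by
      have : v' ⁻¹' {d} = ν '' (ConnectedComponents.mk ⁻¹' (v ⁻¹' {d})) := by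
        ext y
        refine ⟨fun hy => ⟨g y, hy, hg y⟩, ?_⟩
        rintro ⟨z, hz, rfl⟩
        exact (hv' z).trans hz
      rw [this]
      refine ν.isClosedMap _ ?_
      rw [← Set.biUnion_preimage_singleton ConnectedComponents.mk]
      refine (Set.toFinite _).isClosed_biUnion fun Z _ => ?_
      obtain ⟨z, rfl⟩ := ConnectedComponents.surjective_coe Z
      rw [connectedComponents_preimage_singleton]
      exact isClosed_connectedComponent
    refine (IsLocallyConstant.iff_isOpen_fiber).2 fun d => ?_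
    have hfin : (Set.range v').Finite := (Set.finite_range v).subset (by rintro _ ⟨y, rfl⟩; exact ⟨_, rfl⟩)
    have : v' ⁻¹' {d} = (⋃ e ∈ Set.range v' \ {d}, v' ⁻¹' {e})ᶜ := by
      ext y
      simp only [Set.mem_preimage, Set.mem_singleton_iff, Set.mem_compl_iff, Set.mem_iUnion, not_exists,
        Set.mem_sdiff]
      exact ⟨fun hy e he hye => he.2 (hye.symm.trans hy), fun h => by_contra fun hne => h (v' y) ⟨⟨y, rfl⟩, hne⟩ rfl⟩
    rw [this]
    exact ((hfin.subset Set.sdiff_subset).isClosed_biUnion fun e _ => hcl e).isOpen_compl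
  obtain ⟨y₀⟩ : Nonempty C := inferInstance
  have hW₀c : W₀ = ν.app ⊤ (cst k (v' y₀)) := by
    refine Eq.trans (Groth.L21.NormRed.gx_ext W₀ (cst k (v' y₀)) fun z => ?_) (app_cst k ν hν _).symm
    rw [hv z, ← show val z = v' y₀ from (hv' z).symm.trans (hlc.apply_eq_of_isPreconnected isPreconnected_univ trivial trivial)]
  have hs0 : s = 0 := by
    rw [← hW₀, hW₀c]
    exact congr($(cokernel.condition u).app ⊤ (cst k (v' y₀)))
  refine exists_of_coker_zero ν hx b ?_
  rw [← hs1, hs0, map_zero]

end Groth.L21.GenusZero
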