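import Groth.Agent.L21.GenusZero.Descend
import Groth.Agent.L28.AWN.Normal
import Groth.Agent.S7420
import Groth.Agent.L07.BlowLib.FiniteBirat
import Mathlib.AlgebraicGeometry.AlgClosed.Basic

/-!
A connected reduced proper curve of genus zero is seminormal.
-/

set_option autoImplicit false
set_option backward.isDefEq.respectTransparency false
set_option linter.style.haveILetI false
universe u

open CategoryTheory CategoryTheory.Limits AlgebraicGeometry TopologicalSpace Opposite

noncomputable section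

namespace Groth.L21.GenusZero

open Groth.L21.NormRed (gx cst isUnit_gx_cst)

variable (k : Type u) [Field k] [IsAlgClosed k] {C : Scheme.{u}} [C.Over (Spec (CommRingCat.of k))]

theorem exists_value [LocallyOfFiniteType (C ↘ Spec (CommRingCat.of k))] {z : C} (hz : IsClosed ({z} : Set C))
    (g : C.presheaf.stalk z) : ∃ c : k, ¬ IsUnit (g - gx z (cst k c)) := by
  let e := residueFieldIsoBase (C ↘ Spec (CommRingCat.of k)) z hz
  refine ⟨e.hom.hom ((C.residue z).hom g), ?_⟩
  have h1 : ∀ c : k, (C.residue z).hom (gx z (cst k c)) = e.inv.hom c := by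
    intro c
    have h2 := SpecMap_residueFieldIsoBase_inv (C ↘ Spec (CommRingCat.of k)) z hz
    have h3 : e.inv = (Scheme.ΓSpecIso (CommRingCat.of k)).inv ≫ (C.fromSpecResidueField z ≫ (C ↘ Spec (CommRingCat.of k))).appTop ≫
        (Scheme.ΓSpecIso (C.residueField z)).hom := by
      rw [← h2, Scheme.ΓSpecIso_naturality, Iso.inv_hom_id_assoc]
    rw [h3, Scheme.Hom.comp_appTop, Scheme.fromSpecResidueField, Scheme.Hom.comp_appTop, Scheme.fromSpecStalk_appTop]
    have h5 : (Spec (C.presheaf.stalk z)).presheaf.map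
        (homOfLE (le_top : (⊤ : (Spec (C.presheaf.stalk z)).Opens) ≤ ⊤)).op = 𝟙 _ := (Spec _).presheaf.map_id _
    simp only [Category.assoc, Scheme.ΓSpecIso_naturality, h5, Category.id_comp, Iso.inv_hom_id_assoc]
    rfl
  intro hu
  have h4 := hu.map (C.residue z).hom
  rw [map_sub, h1, ← CommRingCat.comp_apply e.hom, Iso.hom_inv_id] at h4
  simp at h4

theorem isClosed_of_mem_finite {T : Type*} [TopologicalSpace T] [JacobsonSpace T] {F : Set T} (hF : IsClosed F)
    (hfin : F.Finite) {z : T} (hz : z ∈ F) : IsClosed ({z} : Set T) := by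
  have h1 : IsClosed (F ∩ closedPoints T) := by
    rw [← Set.biUnion_of_singleton (F ∩ closedPoints T)]
    exact (hfin.subset Set.inter_subset_left).isClosed_biUnion fun x hx => hx.2
  have h2 := JacobsonSpace.closure_inter_closedPoints_eq_closure hF.isLocallyClosed
  rw [h1.closure_eq, hF.closure_eq] at h2
  exact (h2.ge hz).2

variable [IsProper (C ↘ Spec (CommRingCat.of k))] [IsReduced C] [ConnectedSpace C]
  {C' : Scheme.{u}} [C'.Over (Spec (CommRingCat.of k))]

theorem isSeminormal (hd : topologicalKrullDim C ≤ 1) (hgen : Curv2.genus k C = 0) (ν : C' ⟶ C) [IsFinite ν]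
    [Surjective ν] (hν : ν ≫ (C ↘ Spec (CommRingCat.of k)) = C' ↘ Spec (CommRingCat.of k))
    (hn : Pi1.IsNormalScheme C') {U : C.Opens} (hU : Dense (U : Set C)) [IsIso (ν ∣_ U)] :
    HTop.IsSeminormal C := by
  haveI := Groth.L21.RR.isNoetherian_of_proper (X := C) k
  haveI : IsReduced C' := by
    haveI : ∀ x : C', _root_.IsReduced (C'.presheaf.stalk x) := fun x => by
      haveI := (hn x).1; infer_instance
    exact isReduced_of_isReduced_stalk C'
  haveI : IsProper (C' ↘ Spec (CommRingCat.of k)) := by rw [← hν]; infer_instance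
  haveI : JacobsonSpace C' := LocallyOfFiniteType.jacobsonSpace (C' ↘ Spec (CommRingCat.of k))
  refine (Groth.Agent.S7420.result C).1.2 fun W x y hxy => ?_
  have hinj : ∀ V : C.Opens, Function.Injective (ν.app V).hom :=
    Groth.L21.RR.app_injective_of_isIso_over_dense ν hU
  have hB : HTop.IsSeminormalRing Γ(C', ν ⁻¹ᵁ W.1) :=
    (Groth.Agent.S7420.result C').1.1 (Groth.L28.AWN.isSeminormal_of_isNormalScheme hn) ⟨_, W.2.preimage ν⟩
  obtain ⟨b, ⟨hbx, hby⟩, -⟩ := hB ((ν.app W).hom x) ((ν.app W).hom y) (by rw [← map_pow, hxy, map_pow])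
  -- local preimages
  have hloc : ∀ p : W.1, ∃ (V : C.Opens) (_ : p.1 ∈ V) (hVW : V ≤ W.1) (a : Γ(C, V)),
      ν.app V a = C'.presheaf.map (homOfLE (ν.preimage_mono hVW)).op b := by
    rintro ⟨p, hp⟩
    by_cases hpc : IsClosed ({p} : Set C)
    · obtain ⟨ξ, hξ⟩ := exists_value k hpc (C.presheaf.germ W.1 p hp x)
      obtain ⟨η, hη⟩ := exists_value k hpc (C.presheaf.germ W.1 p hp y)
      have hval : ∀ (z : C') (hz : ν z = p) (c : k),
          ¬ IsUnit (C'.presheaf.germ (ν ⁻¹ᵁ W.1) z (show ν z ∈ W.1 by rw [hz]; exact hp) b - gx z (cst k c)) →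
          ξ = c ^ 2 ∧ η = c ^ 3 := by
        intro z hz c hc
        subst hz
        have main : ∀ (n : ℕ) (t : Γ(C, W.1)) (τ : k), (ν.app W).hom t = b ^ n →
            ¬ IsUnit (C.presheaf.germ W.1 (ν z) hp t - gx (ν z) (cst k τ)) → τ = c ^ n := by
          intro n t τ htb hτ
          refine cst_eq_of_sub_mem k (y := z) (C'.presheaf.germ (ν ⁻¹ᵁ W.1) z hp b ^ n) ?_ ?_
          · intro hu
            refine hτ ((isUnit_map_iff (ν.stalkMap z).hom _).1 ?_)
            rw [map_sub, stalkMap_cst k ν hν, Scheme.Hom.germ_stalkMap_apply, htb, map_pow]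
            exact hu
          · rw [map_pow (cst k), map_pow (gx z)]
            obtain ⟨q, hq⟩ := sub_dvd_pow_sub_pow (C'.presheaf.germ (ν ⁻¹ᵁ W.1) z hp b) (gx z (cst k c)) n
            intro hu
            rw [hq] at hu
            exact hc (isUnit_of_mul_isUnit_left hu)
        exact ⟨main 2 x ξ hbx hξ, main 3 y η hby hη⟩
      have hfib : ∀ z : C', ν z = p → IsClosed ({z} : Set C') := fun z hz =>
        isClosed_of_mem_finite (F := ν ⁻¹' {p}) (hpc.preimage ν.continuous) (ν.finite_preimage_singleton p) hz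
      obtain ⟨z₀, hz₀⟩ := ν.surjective p
      obtain ⟨c, hc⟩ := exists_value k (hfib z₀ hz₀)
        (C'.presheaf.germ (ν ⁻¹ᵁ W.1) z₀ (show ν z₀ ∈ W.1 by rw [hz₀]; exact hp) b)
      obtain ⟨hc2, hc3⟩ := hval z₀ hz₀ c hc
      refine exists_preimage k hd hgen ν hν hU hp b c fun z hz => ?_
      obtain ⟨d, hd'⟩ := exists_value k (hfib z hz)
        (C'.presheaf.germ (ν ⁻¹ᵁ W.1) z (show ν z ∈ W.1 by rw [hz]; exact hp) b)
      obtain ⟨hd2, hd3⟩ := hval z hz d hd'
      rwa [Groth.L28.AWN.eq_of_sq_cube (hc2.symm.trans hd2) (hc3.symm.trans hd3)]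
    · have hpU := Groth.L21.RR.mem_of_dense_of_not_isClosed hd hU hpc
      haveI := Groth.L07.BlowLib.isIso_app_of_le ν (C := U) inferInstance (W.1 ⊓ U) inf_le_right
      obtain ⟨a, ha⟩ := (ConcreteCategory.bijective_of_isIso (ν.app (W.1 ⊓ U))).2
        (C'.presheaf.map (homOfLE (ν.preimage_mono (inf_le_left : W.1 ⊓ U ≤ W.1))).op b)
      exact ⟨W.1 ⊓ U, ⟨hp, hpU⟩, inf_le_left, a, ha⟩
  choose V hV hVW a ha using hloc
  obtain ⟨A, hA, -⟩ := C.sheaf.existsUnique_gluing' V W.1 (fun p => homOfLE (hVW p))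
    (fun p hp => TopologicalSpace.Opens.mem_iSup.2 ⟨⟨p, hp⟩, hV ⟨p, hp⟩⟩) a (fun p q => by
      apply hinj
      refine Eq.trans congr($(ν.naturality (homOfLE (inf_le_left : V p ⊓ V q ≤ V p)).op) (a p)) ?_
      refine Eq.trans ?_ congr($(ν.naturality (homOfLE (inf_le_right : V p ⊓ V q ≤ V q)).op) (a q)).symm
      show (C'.presheaf.map _).hom ((ν.app (V p)).hom (a p)) = (C'.presheaf.map _).hom ((ν.app (V q)).hom (a q))
      rw [ha, ha, ← CommRingCat.comp_apply, ← CommRingCat.comp_apply, ← Functor.map_comp, ← Functor.map_comp]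
      rfl)
  have hAb : (ν.app W).hom A = b := by
    refine TopCat.Presheaf.section_ext C'.sheaf _ _ _ fun z hz => ?_
    have h1 := congrArg (ν.app (V ⟨ν z, hz⟩)).hom (hA ⟨ν z, hz⟩)
    rw [ha] at h1
    have h2 := congr($(ν.naturality (homOfLE (hVW ⟨ν z, hz⟩)).op) A)
    have h3 := congrArg (C'.presheaf.germ (ν ⁻¹ᵁ V ⟨ν z, hz⟩) z (hV ⟨ν z, hz⟩)).hom (h2.symm.trans h1)
    exact (TopCat.Presheaf.germ_res_apply C'.presheaf _ z _ _).symm.trans
      (h3.trans (TopCat.Presheaf.germ_res_apply C'.presheaf _ z _ _))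
  refine ⟨A, ⟨hinj _ ?_, hinj _ ?_⟩, fun A' hA' => ?_⟩
  · rw [map_pow, hAb, hbx]
  · rw [map_pow, hAb, hby]
  · refine hinj _ (Groth.L28.AWN.eq_of_sq_cube ?_ ?_)
    · rw [← map_pow, ← hA'.1, hAb, hbx]
    · rw [← map_pow, ← hA'.2, hAb, hby]

end Groth.L21.GenusZero
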